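import Groth.Agent.Lib.UnivSubm25.Basic
import Groth.Agent.Lib.IsQuot25.Torsor
import Mathlib.AlgebraicGeometry.Morphisms.UniversallyInjective

/-!
# Morphisms to étale schemes as open graphs; descent along universally submersive morphisms
-/

set_option autoImplicit false
set_option backward.isDefEq.respectTransparency.types false
universe u

open CategoryTheory CategoryTheory.Limits AlgebraicGeometry MorphismProperty TopologicalSpace

namespace Groth.Agent.UnivSubm25

variable {S X Y : Scheme.{u}} (p : X ⟶ S) (q : Y ⟶ S) [Etale q]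

/-- An étale universally injective morphism is an open immersion. -/
theorem isOpenImmersion_of_etale_univInj {A B : Scheme.{u}} (π : A ⟶ B) [Etale π]
    [UniversallyInjective π] : IsOpenImmersion π := by
  haveI : Surjective (pullback.diagonal π) :=
    ((universallyInjective_eq_diagonal ▸ ‹UniversallyInjective π›) : diagonal @Surjective π)
  haveI : IsIso (pullback.diagonal π) :=
    (isIso_iff_isOpenImmersion_and_surjective _).mpr ⟨inferInstance, inferInstance⟩
  haveI : Mono π := (pullback.isIso_diagonal_iff π).1 inferInstance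
  exact IsOpenImmersion.of_flat_of_mono π

/-- The graph. -/
noncomputable def graph (f : {f : X ⟶ Y // f ≫ q = p}) : X ⟶ pullback p q :=
  pullback.lift (𝟙 X) f.1 ((Category.id_comp p).trans f.2.symm)

theorem isOpenImmersion_graph (f : {f : X ⟶ Y // f ≫ q = p}) : IsOpenImmersion (graph p q f) := by
  haveI : Etale (pullback.fst p q) := MorphismProperty.pullback_fst _ _ ‹Etale q›
  exact IsQuot25.isOpenImmersion_section (pullback.fst p q) _ (pullback.lift_fst _ _ _)

theorem existsUnique_hom_of_open (U : (pullback p q).Opens)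
    (hinj : UniversallyInjective (U.ι ≫ pullback.fst p q))
    (hsurj : Surjective (U.ι ≫ pullback.fst p q)) :
    ∃! f : {f : X ⟶ Y // f ≫ q = p}, Set.range (graph p q f) = (U : Set ↥(pullback p q)) := by
  haveI : Etale (pullback.fst p q) := MorphismProperty.pullback_fst _ _ ‹Etale q›
  haveI : Etale (U.ι ≫ pullback.fst p q) := inferInstance
  haveI := isOpenImmersion_of_etale_univInj (U.ι ≫ pullback.fst p q)
  haveI : IsIso (U.ι ≫ pullback.fst p q) :=
    (isIso_iff_isOpenImmersion_and_surjective _).mpr ⟨inferInstance, inferInstance⟩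
  let j := inv (U.ι ≫ pullback.fst p q)
  have hj : j ≫ U.ι ≫ pullback.fst p q = 𝟙 X := IsIso.inv_hom_id _
  let f₀ : {f : X ⟶ Y // f ≫ q = p} := ⟨j ≫ U.ι ≫ pullback.snd p q, by
    rw [Category.assoc, Category.assoc, ← pullback.condition, ← Category.assoc U.ι,
      ← Category.assoc j, hj, Category.id_comp]⟩
  have hf₀ : graph p q f₀ = j ≫ U.ι := by
    apply pullback.hom_ext
    · rw [graph, pullback.lift_fst, Category.assoc, hj]
    · rw [graph, pullback.lift_snd, Category.assoc]
  refine ⟨f₀, ?_, fun f hf => ?_⟩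
  · show Set.range (graph p q f₀) = _
    rw [hf₀]
    ext z
    constructor
    · rintro ⟨x, rfl⟩
      rw [Scheme.Hom.comp_apply]
      exact (j x).2
    · intro hz
      obtain ⟨x, hx⟩ := j.surjective ⟨z, hz⟩
      exact ⟨x, by rw [Scheme.Hom.comp_apply, hx]; rfl⟩
  · let l := IsOpenImmersion.lift U.ι (graph p q f) (by rw [Scheme.Opens.range_ι, hf])
    have hl : l ≫ U.ι = graph p q f := IsOpenImmersion.lift_fac _ _ _
    have h1 : l ≫ U.ι ≫ pullback.fst p q = 𝟙 X := by
      rw [← Category.assoc, hl, graph, pullback.lift_fst]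
    have h2 : l = j := by
      rw [← cancel_mono (U.ι ≫ pullback.fst p q), h1, hj]
    apply Subtype.ext
    show f.1 = j ≫ U.ι ≫ pullback.snd p q
    rw [← h2, ← Category.assoc, hl, graph, pullback.lift_snd]

/-- Two morphisms into a scheme unramified over `S` agreeing after a surjection. -/
theorem hom_ext_of_surjective {S X Y X' : Scheme.{u}} (q : Y ⟶ S) [Etale q] (a b : X ⟶ Y)
    (hab : a ≫ q = b ≫ q) (π : X' ⟶ X) [Surjective π] (h : π ≫ a = π ≫ b) : a = b := by
  let P := pullback.lift a b hab
  let c := IsOpenImmersion.lift (pullback.diagonal q) P (by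
    rintro _ ⟨x, rfl⟩
    obtain ⟨x', rfl⟩ := π.surjective x
    refine ⟨(π ≫ a) x', ?_⟩
    rw [← Scheme.Hom.comp_apply, ← Scheme.Hom.comp_apply]
    refine congrArg (fun m : X' ⟶ pullback q q => m x') ?_
    apply pullback.hom_ext
    · simp [P, pullback.lift_fst]
    · simp [P, pullback.lift_snd, h])
  have hc : c ≫ pullback.diagonal q = P := IsOpenImmersion.lift_fac _ _ _
  have h1 := congrArg (· ≫ pullback.fst q q) hc
  have h2 := congrArg (· ≫ pullback.snd q q) hc
  simp only [Category.assoc, pullback.diagonal_fst, pullback.diagonal_snd, Category.comp_id, P,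
    pullback.lift_fst, pullback.lift_snd] at h1 h2
  rw [← h1, ← h2]

theorem exists_desc_etale {S' : Scheme.{u}} (g : S' ⟶ S) (hg : SGA1.UnivSubmersive g)
    (φ : pullback p g ⟶ Y) (hφ : φ ≫ q = pullback.snd p g ≫ g)
    (hcoc : ∀ {T : Scheme.{u}} (x : T ⟶ X) (s₁ s₂ : T ⟶ S') (h₁ : x ≫ p = s₁ ≫ g)
      (h₂ : x ≫ p = s₂ ≫ g), pullback.lift x s₁ h₁ ≫ φ = pullback.lift x s₂ h₂ ≫ φ) :
    ∃! u : X ⟶ Y, u ≫ q = p ∧ φ = pullback.fst p g ≫ u := by
  haveI hgsurj : Surjective g := ⟨(isQuotientMap_of_univSubmersive hg).surjective⟩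
  let Z : Scheme.{u} := pullback p q
  let r : Z ⟶ S := pullback.fst p q ≫ p
  let b : pullback r g ⟶ Z := pullback.fst r g
  have hb : Topology.IsQuotientMap b :=
    isQuotientMap_of_univSubmersive (MorphismProperty.pullback_fst _ _ hg)
  let γ : pullback p g ⟶ pullback r g :=
    pullback.lift (pullback.lift (pullback.fst p g) φ (by rw [pullback.condition, hφ]))
      (pullback.snd p g) (by
        show _ ≫ pullback.fst p q ≫ p = _
        rw [pullback.lift_fst_assoc, pullback.condition])
  let π : pullback r g ⟶ pullback p g :=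
    pullback.map r g p g (pullback.fst p q) (𝟙 S') (𝟙 S) (Category.comp_id _) (by simp)
  have hπ : IsPullback π b (pullback.fst p g) (pullback.fst p q) :=
    IsPullback.of_right (h₁₂ := pullback.snd p g) (v₁₃ := g) (h₂₂ := p)
      (by
        rw [show π ≫ pullback.snd p g = pullback.snd r g by simp [π, pullback.map, pullback.lift_snd]]
        exact (IsPullback.of_hasPullback r g).flip)
      (pullback.lift_fst _ _ _) (IsPullback.of_hasPullback p g).flip
  haveI : Etale (pullback.fst p q) := MorphismProperty.pullback_fst _ _ ‹Etale q›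
  haveI : Etale π := MorphismProperty.of_isPullback hπ.flip ‹Etale (pullback.fst p q)›
  have hγπ : γ ≫ π = 𝟙 _ := by
    apply pullback.hom_ext
    · simp [γ, π, b, pullback.map, pullback.lift_fst, pullback.lift_fst_assoc]
    · simp [γ, π, pullback.map, pullback.lift_snd, pullback.lift_snd_assoc]
  haveI := IsQuot25.isOpenImmersion_section π γ hγπ
  -- criterion for lying in the image
  have key : ∀ {L : Type u} [Field L] (a : Spec (CommRingCat.of L) ⟶ pullback r g),
      (∀ t, a t ∈ γ.opensRange) → a ≫ b ≫ pullback.snd p q = a ≫ π ≫ φ := by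
    intro L _ a ha
    let l := IsOpenImmersion.lift γ a (by rintro _ ⟨t, rfl⟩; exact ha t)
    have hl : l ≫ γ = a := IsOpenImmersion.lift_fac _ _ _
    rw [← hl, Category.assoc, Category.assoc, reassoc_of% hγπ]
    simp [γ, b, pullback.lift_fst_assoc, pullback.lift_snd]
  have key' : ∀ {L : Type u} [Field L] (a : Spec (CommRingCat.of L) ⟶ pullback r g),
      a ≫ b ≫ pullback.snd p q = a ≫ π ≫ φ → ∀ t, a t ∈ γ.opensRange := by
    intro L _ a ha t
    refine ⟨(a ≫ π) t, ?_⟩
    rw [← Scheme.Hom.comp_apply]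
    refine congrArg (fun m : _ ⟶ pullback r g => m t) ?_
    apply pullback.hom_ext
    · apply pullback.hom_ext
      · simp [γ, π, pullback.map, pullback.lift_fst, pullback.lift_fst_assoc]
      · simpa [γ, b, pullback.lift_fst, pullback.lift_fst_assoc, pullback.lift_snd] using ha.symm
    · simp [γ, π, pullback.map, pullback.lift_snd, pullback.lift_snd_assoc]
  have hindep : ∀ {L : Type u} [Field L] (a a' : Spec (CommRingCat.of L) ⟶ pullback r g),
      a ≫ b = a' ≫ b → a ≫ π ≫ φ = a' ≫ π ≫ φ := by
    intro L _ a a' e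
    have e1 : a ≫ π ≫ pullback.fst p g = a' ≫ π ≫ pullback.fst p g := by
      rw [hπ.w, reassoc_of% e]
    have hw : ∀ c : Spec (CommRingCat.of L) ⟶ pullback r g,
        (c ≫ π ≫ pullback.fst p g) ≫ p = (c ≫ π ≫ pullback.snd p g) ≫ g := fun c => by
      simp only [Category.assoc, pullback.condition]
    have := hcoc (a ≫ π ≫ pullback.fst p g) (a ≫ π ≫ pullback.snd p g) (a' ≫ π ≫ pullback.snd p g)
      (hw a) (by rw [e1]; exact hw a')
    rw [show pullback.lift _ _ (hw a) = a ≫ π by apply pullback.hom_ext <;> simp [pullback.lift_fst, pullback.lift_snd],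
      show pullback.lift _ (a' ≫ π ≫ pullback.snd p g) (by rw [e1]; exact hw a') = a' ≫ π by
        apply pullback.hom_ext <;> simp [pullback.lift_fst, pullback.lift_snd, e1]] at this
    rwa [Category.assoc, Category.assoc] at this
  -- saturation
  have hsat : b ⁻¹' (b '' (γ.opensRange : Set ↥(pullback r g))) = (γ.opensRange : Set ↥(pullback r g)) := by
    ext z
    refine ⟨?_, fun hz => ⟨z, hz, rfl⟩⟩
    rintro ⟨w, hw, e⟩
    obtain ⟨m, hm₁, hm₂⟩ := Scheme.Pullback.exists_preimage_pullback (f := b) (g := b) w z e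
    let c := (pullback b b : Scheme).fromSpecResidueField m
    let pt : Spec ((pullback b b : Scheme).residueField m) := IsLocalRing.closedPoint _
    have hc : c pt = m := Scheme.fromSpecResidueField_apply m pt
    have h1 := key (L := (pullback b b : Scheme).residueField m) (c ≫ pullback.fst b b) fun t => by
      rw [Scheme.Hom.comp_apply, show c t = m from Scheme.fromSpecResidueField_apply m t, hm₁]
      exact hw
    have e2 : (c ≫ pullback.fst b b) ≫ b = (c ≫ pullback.snd b b) ≫ b := by
      simp only [Category.assoc, pullback.condition]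
    have h2 := hindep (L := (pullback b b : Scheme).residueField m) _ _ e2
    have h3 := key' (L := (pullback b b : Scheme).residueField m) (c ≫ pullback.snd b b) (by
      rw [← h2, ← h1, ← Category.assoc _ b, ← Category.assoc _ b, e2]) pt
    rwa [Scheme.Hom.comp_apply, hc, hm₂] at h3
  let U : Z.Opens := ⟨b '' (γ.opensRange : Set ↥(pullback r g)),
    hb.isOpen_preimage.1 (by rw [hsat]; exact γ.opensRange.2)⟩
  have hUsurj : Surjective (U.ι ≫ pullback.fst p q) := by
    refine ⟨fun x => ?_⟩
    haveI : Surjective (pullback.fst p g) := MorphismProperty.pullback_fst _ _ hgsurj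
    obtain ⟨x', rfl⟩ := (pullback.fst p g).surjective x
    refine ⟨⟨b (γ x'), ⟨γ x', ⟨x', rfl⟩, rfl⟩⟩, ?_⟩
    rw [Scheme.Hom.comp_apply]
    show pullback.fst p q (b (γ x')) = _
    rw [← Scheme.Hom.comp_apply, ← Scheme.Hom.comp_apply]
    refine congrArg (fun m : pullback p g ⟶ X => m x') ?_
    simp [γ, b, pullback.lift_fst_assoc, pullback.lift_fst]
  have hUinj : UniversallyInjective (U.ι ≫ pullback.fst p q) := by
    set π₀ := U.ι ≫ pullback.fst p q with hπ₀
    rw [universallyInjective_eq_diagonal]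
    show Surjective (pullback.diagonal π₀)
    refine ⟨fun z => ?_⟩
    let c := (pullback π₀ π₀ : Scheme).fromSpecResidueField z
    let x := c ≫ pullback.fst π₀ π₀ ≫ π₀
    haveI : Surjective (pullback.fst (x ≫ p) g) := MorphismProperty.pullback_fst _ _ hgsurj
    obtain ⟨t, -⟩ := (pullback.fst (x ≫ p) g).surjective (IsLocalRing.closedPoint _)
    let L := (pullback (x ≫ p) g : Scheme).residueField t
    let d := (pullback (x ≫ p) g : Scheme).fromSpecResidueField t
    let c' : Spec (CommRingCat.of L) ⟶ pullback π₀ π₀ := d ≫ pullback.fst (x ≫ p) g ≫ c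
    let s : Spec (CommRingCat.of L) ⟶ S' := d ≫ pullback.snd (x ≫ p) g
    have hx₁ : c' ≫ pullback.fst π₀ π₀ ≫ π₀ = c' ≫ pullback.snd π₀ π₀ ≫ π₀ := by
      simp only [pullback.condition]
    let u₁ := c' ≫ pullback.fst π₀ π₀ ≫ U.ι
    let u₂ := c' ≫ pullback.snd π₀ π₀ ≫ U.ι
    have hs1 : u₁ ≫ r = s ≫ g := by
      have := congrArg (d ≫ ·) (pullback.condition (f := x ≫ p) (g := g))
      simp only [x, hπ₀, Category.assoc] at this
      simpa only [u₁, c', s, r, Category.assoc] using this
    have hs2 : u₂ ≫ r = s ≫ g := by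
      rw [← hs1]
      have := congrArg (· ≫ p) hx₁
      simp only [hπ₀, Category.assoc] at this
      simpa only [u₁, u₂, r, Category.assoc] using this.symm
    let a₁ := pullback.lift u₁ s hs1
    let a₂ := pullback.lift u₂ s hs2
    have hmem : ∀ (a : Spec (CommRingCat.of L) ⟶ pullback r g) (k : Spec (CommRingCat.of L) ⟶ U.toScheme),
        a ≫ b = k ≫ U.ι → ∀ t, a t ∈ γ.opensRange := by
      intro a k hk t
      have : b (a t) ∈ U := by
        rw [← Scheme.Hom.comp_apply, hk, Scheme.Hom.comp_apply]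
        exact (k t).2
      rw [← SetLike.mem_coe, ← hsat]
      exact this
    have e₁ := key a₁ (hmem a₁ (c' ≫ pullback.fst π₀ π₀) (by simp [a₁, b, u₁, pullback.lift_fst]))
    have e₂ := key a₂ (hmem a₂ (c' ≫ pullback.snd π₀ π₀) (by simp [a₂, b, u₂, pullback.lift_fst]))
    have eπ : a₁ ≫ π = a₂ ≫ π := by
      apply pullback.hom_ext
      · simpa [a₁, a₂, π, u₁, u₂, pullback.map, pullback.lift_fst, pullback.lift_fst_assoc, hπ₀] using hx₁
      · simp [a₁, a₂, π, pullback.map, pullback.lift_snd, pullback.lift_snd_assoc]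
    have eu : u₁ = u₂ := by
      apply pullback.hom_ext
      · simpa [u₁, u₂, hπ₀] using hx₁
      · have e₃ : a₁ ≫ b ≫ pullback.snd p q = a₂ ≫ b ≫ pullback.snd p q :=
          e₁.trans ((by rw [← Category.assoc a₁, eπ, Category.assoc] :
            a₁ ≫ π ≫ φ = a₂ ≫ π ≫ φ).trans e₂.symm)
        simpa [a₁, a₂, b, pullback.lift_fst_assoc] using e₃
    let pt : Spec (CommRingCat.of L) := IsLocalRing.closedPoint L
    refine ⟨(c' ≫ pullback.fst π₀ π₀) pt, ?_⟩
    have hcz : c' pt = z := by
      simp only [c', Scheme.Hom.comp_apply]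
      exact Scheme.fromSpecResidueField_apply z _
    conv_rhs => rw [← hcz]
    rw [← Scheme.Hom.comp_apply]
    refine congrArg (fun m : Spec (CommRingCat.of L) ⟶ _ => m pt) ?_
    apply pullback.hom_ext
    · simp
    · rw [← cancel_mono U.ι]
      simpa [u₁, u₂] using eu
  obtain ⟨⟨u, hu⟩, hrange, -⟩ := existsUnique_hom_of_open p q U hUinj hUsurj
  refine ⟨u, ⟨hu, ?_⟩, fun u' hu' => ?_⟩
  · haveI := isOpenImmersion_graph p q ⟨u, hu⟩
    let l := IsOpenImmersion.lift (graph p q ⟨u, hu⟩) (γ ≫ b) (by
      rw [hrange]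
      rintro _ ⟨x', rfl⟩
      exact ⟨γ x', ⟨x', rfl⟩, rfl⟩)
    have hl : l ≫ graph p q ⟨u, hu⟩ = γ ≫ b := IsOpenImmersion.lift_fac _ _ _
    have h1 := congrArg (· ≫ pullback.fst p q) hl
    have h2 := congrArg (· ≫ pullback.snd p q) hl
    simp [γ, b, graph, pullback.lift_fst, pullback.lift_snd, pullback.lift_fst_assoc] at h1 h2
    rw [← h2, h1]
  · haveI : Surjective (pullback.fst p g) := MorphismProperty.pullback_fst _ _ hgsurj
    haveI := isOpenImmersion_graph p q ⟨u, hu⟩
    let l := IsOpenImmersion.lift (graph p q ⟨u, hu⟩) (γ ≫ b) (by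
      rw [hrange]
      rintro _ ⟨x', rfl⟩
      exact ⟨γ x', ⟨x', rfl⟩, rfl⟩)
    have hl : l ≫ graph p q ⟨u, hu⟩ = γ ≫ b := IsOpenImmersion.lift_fac _ _ _
    have h1 := congrArg (· ≫ pullback.fst p q) hl
    have h2 := congrArg (· ≫ pullback.snd p q) hl
    simp [γ, b, graph, pullback.lift_fst, pullback.lift_snd, pullback.lift_fst_assoc] at h1 h2
    refine hom_ext_of_surjective q u' u (by rw [hu'.1, hu]) (pullback.fst p g) ?_
    rw [← hu'.2, ← h2, h1]

end Groth.Agent.UnivSubm25
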