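import Groth.Prelude.Def_SGA1
import Mathlib.AlgebraicGeometry.Morphisms.UniversallyClosed
import Mathlib.AlgebraicGeometry.Morphisms.UniversallyOpen
import Mathlib.AlgebraicGeometry.Morphisms.Separated
import Mathlib.AlgebraicGeometry.PullbackCarrier
import Mathlib.AlgebraicGeometry.Morphisms.Immersion
import Mathlib.CategoryTheory.MorphismProperty.Descent

/-!
# Descent of topological properties along universally submersive morphisms
-/

set_option autoImplicit false
universe u

open CategoryTheory CategoryTheory.Limits AlgebraicGeometry MorphismProperty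

namespace Groth.Agent.UnivSubm25

theorem isQuotientMap_of_univSubmersive {X Z : Scheme.{u}} {f : X ⟶ Z} (hf : SGA1.UnivSubmersive f) :
    Topology.IsQuotientMap f :=
  MorphismProperty.universally_le _ _ hf

instance : SGA1.UnivSubmersive.{u}.IsStableUnderBaseChange :=
  inferInstanceAs (MorphismProperty.universally _).IsStableUnderBaseChange

theorem isClosedMap_of_isPullback {A X Y Z : Scheme.{u}} {fst : A ⟶ X} {snd : A ⟶ Y} {f : X ⟶ Z}
    {g : Y ⟶ Z} (h : IsPullback fst snd f g) (hf : Topology.IsQuotientMap f)
    (hfst : IsClosedMap fst) : IsClosedMap g := fun C hC => by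
  rw [← hf.isClosed_preimage]
  have := Scheme.image_preimage_eq_of_isPullback h.flip C
  exact this ▸ hfst _ (hC.preimage snd.continuous)

theorem isOpenMap_of_isPullback {A X Y Z : Scheme.{u}} {fst : A ⟶ X} {snd : A ⟶ Y} {f : X ⟶ Z}
    {g : Y ⟶ Z} (h : IsPullback fst snd f g) (hf : Topology.IsQuotientMap f)
    (hfst : IsOpenMap fst) : IsOpenMap g := fun C hC => by
  rw [← hf.isOpen_preimage]
  have := Scheme.image_preimage_eq_of_isPullback h.flip C
  exact this ▸ hfst _ (hC.preimage snd.continuous)

/-- From a topological property to its universal form. -/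
theorem universally_of_isPullback (P : MorphismProperty Scheme.{u})
    (H : ∀ {A X Y Z : Scheme.{u}} {fst : A ⟶ X} {snd : A ⟶ Y} {f : X ⟶ Z} {g : Y ⟶ Z},
      IsPullback fst snd f g → Topology.IsQuotientMap f → P fst → P g)
    {A X Y Z : Scheme.{u}} {fst : A ⟶ X} {snd : A ⟶ Y} {f : X ⟶ Z} {g : Y ⟶ Z}
    (h : IsPullback fst snd f g) (hf : SGA1.UnivSubmersive f) (hfst : P.universally fst) :
    P.universally g := by
  intro Y' Z' i₁ i₂ g' hg'
  let f' := pullback.snd f i₂
  have hf' : Topology.IsQuotientMap f' :=
    isQuotientMap_of_univSubmersive (MorphismProperty.pullback_snd _ _ hf)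
  let A' := pullback g' f'
  let fst' : A' ⟶ pullback f i₂ := pullback.snd g' f'
  let snd' : A' ⟶ Y' := pullback.fst g' f'
  have sq' : IsPullback fst' snd' f' g' := (IsPullback.of_hasPullback g' f').flip
  refine H sq' hf' ?_
  -- `fst'` is a base change of `fst`
  let a : A' ⟶ A := h.lift (fst' ≫ pullback.fst f i₂) (snd' ≫ i₁) (by
    rw [Category.assoc, Category.assoc, pullback.condition, ← hg'.w, ← Category.assoc, ← Category.assoc]
    exact congrArg (· ≫ i₂) sq'.w)
  refine hfst a (pullback.fst f i₂) fst' ?_
  have h1 : IsPullback snd' fst' g' f' := sq'.flip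
  -- paste the pullback squares
  have h2 : IsPullback fst' (snd' ≫ i₁) (f' ≫ i₂) g := sq'.paste_vert hg'
  have hw : f' ≫ i₂ = pullback.fst f i₂ ≫ f := pullback.condition.symm
  rw [hw] at h2
  refine IsPullback.of_bot (h₁₁ := fst') (v₁₁ := a) (v₁₂ := pullback.fst f i₂) (h₂₁ := fst) (v₂₁ := snd)
    (v₂₂ := f) (h₃₁ := g) ?_ (h.lift_fst _ _ _).symm h
  rw [show a ≫ snd = snd' ≫ i₁ from h.lift_snd _ _ _]
  exact h2

instance : DescendsAlong @UniversallyClosed.{u} SGA1.UnivSubmersive where
  of_isPullback h hf hfst := ⟨universally_of_isPullback _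
    (fun h' hf' h'' => isClosedMap_of_isPullback h' hf' h'') h hf hfst.universally_isClosedMap⟩

instance : DescendsAlong @UniversallyOpen.{u} SGA1.UnivSubmersive where
  of_isPullback h hf hfst := ⟨universally_of_isPullback _
    (fun h' hf' h'' => isOpenMap_of_isPullback h' hf' h'') h hf hfst.universally_isOpenMap⟩

instance : DescendsAlong @IsSeparated.{u} SGA1.UnivSubmersive where
  of_isPullback {A X Y Z fst snd f g} h hf hfst := by
    haveI : (diagonal @UniversallyClosed.{u}).DescendsAlong SGA1.UnivSubmersive := inferInstance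
    haveI := hfst.isClosedImmersion_diagonal
    have h1 : diagonal @UniversallyClosed.{u} fst := inferInstanceAs (UniversallyClosed (pullback.diagonal fst))
    haveI : UniversallyClosed (pullback.diagonal g) :=
      MorphismProperty.of_isPullback_of_descendsAlong (P := diagonal @UniversallyClosed.{u}) h hf h1
    exact ⟨.of_isPreimmersion _ (pullback.diagonal g).isClosedMap.isClosed_range⟩

end Groth.Agent.UnivSubm25
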