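import Groth.Agent.Lib.UnivSubm25.Graph
import Mathlib.AlgebraicGeometry.AlgClosed.Basic
import Mathlib.Topology.Connected.Clopen
import Mathlib.FieldTheory.IsAlgClosed.AlgebraicClosure
import Mathlib.CategoryTheory.Comma.Over.Pullback

/-!
# Universally submersive morphisms with geometrically connected fibres
-/

set_option autoImplicit false
set_option backward.isDefEq.respectTransparency.types false
universe u

open CategoryTheory CategoryTheory.Limits AlgebraicGeometry TopologicalSpace

namespace Groth.Agent.UnivSubm25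

/-- An étale scheme over an algebraically closed field is discrete. -/
theorem discreteTopology_of_etale {X : Scheme.{u}} {K : Type u} [Field K] [IsAlgClosed K]
    (f : X ⟶ Spec (CommRingCat.of K)) [Etale f] : DiscreteTopology X := by
  haveI : JacobsonSpace X := LocallyOfFiniteType.jacobsonSpace f
  have hopen : ∀ x : X, IsClosed {x} → IsOpen {x} := fun x hx => by
    haveI := IsQuot25.isOpenImmersion_section f _ (pointOfClosedPoint_comp f x hx)
    have := (pointOfClosedPoint f x hx).isOpenEmbedding.isOpen_range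
    rwa [show Set.range (pointOfClosedPoint f x hx) = {x} from
      Set.eq_singleton_iff_unique_mem.2 ⟨⟨IsLocalRing.closedPoint K, pointOfClosedPoint_apply f x hx _⟩,
        by rintro _ ⟨a, rfl⟩; exact pointOfClosedPoint_apply f x hx a⟩] at this
  let U : Set X := ⋃ x : {x : X // IsClosed {x}}, {x.1}
  have hU : IsOpen U := isOpen_iUnion fun x => hopen x.1 x.2
  have hUuniv : U = Set.univ := by
    by_contra hne
    obtain ⟨x, hx, hxc⟩ := nonempty_inter_closedPoints (Set.nonempty_compl.2 hne) hU.isClosed_compl.isLocallyClosed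
    exact hx (Set.mem_iUnion.2 ⟨⟨x, hxc⟩, rfl⟩)
  rw [discreteTopology_iff_isOpen_singleton]
  intro x
  obtain ⟨⟨y, hy⟩, rfl⟩ := Set.mem_iUnion.1 (hUuniv ▸ Set.mem_univ x : x ∈ U)
  exact hopen _ hy

variable {S' S : Scheme.{u}} (g : S' ⟶ S)

theorem connectedSpace (hg : SGA1.UnivSubmersive g)
    (hconn : ∀ (K : Type u) [Field K] [IsAlgClosed K] (ξ : Spec (CommRingCat.of K) ⟶ S),
      ConnectedSpace ↑(pullback g ξ)) [ConnectedSpace S] : ConnectedSpace S' := by
  have hq := isQuotientMap_of_univSubmersive hg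
  have hfib : ∀ s : S, _root_.IsConnected (g ⁻¹' {s}) := fun s => by
    let K := AlgebraicClosure (S.residueField s)
    let ξ : Spec (CommRingCat.of K) ⟶ S :=
      Spec.map (CommRingCat.ofHom (algebraMap (S.residueField s) K)) ≫ S.fromSpecResidueField s
    haveI := hconn K ξ
    have hr : Set.range ξ = {s} := by
      refine Set.eq_singleton_iff_unique_mem.2 ⟨⟨IsLocalRing.closedPoint K, ?_⟩, ?_⟩
      · rw [Scheme.Hom.comp_apply]; exact Scheme.fromSpecResidueField_apply s _
      · rintro _ ⟨a, rfl⟩
        rw [Scheme.Hom.comp_apply]; exact Scheme.fromSpecResidueField_apply s _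
    rw [← hr, ← Scheme.Pullback.range_fst]
    exact isConnected_range (pullback.fst g ξ).continuous
  rw [connectedSpace_iff_connectedComponent]
  obtain ⟨x⟩ : Nonempty S' := ⟨(hq.surjective (Classical.arbitrary S)).choose⟩
  have h := hq.isCoinducing.preimage_connectedComponent hfib x
  rw [PreconnectedSpace.connectedComponent_eq_univ, Set.preimage_univ] at h
  exact ⟨x, h.symm⟩

/-- Morphisms into étale schemes descend along geometrically connected universally submersive maps. -/
theorem existsUnique_desc (hg : SGA1.UnivSubmersive g)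
    (hconn : ∀ (K : Type u) [Field K] [IsAlgClosed K] (ξ : Spec (CommRingCat.of K) ⟶ S),
      ConnectedSpace ↑(pullback g ξ))
    {X Y : Scheme.{u}} (p : X ⟶ S) (q : Y ⟶ S) [Etale q] (φ : pullback p g ⟶ Y)
    (hφ : φ ≫ q = pullback.snd p g ≫ g) :
    ∃! u : X ⟶ Y, u ≫ q = p ∧ φ = pullback.fst p g ≫ u := by
  refine exists_desc_etale p q g hg φ hφ fun {T} x s₁ s₂ h₁ h₂ => ?_
  let a := pullback.lift x s₁ h₁ ≫ φ
  let b := pullback.lift x s₂ h₂ ≫ φ
  have hab : a ≫ q = b ≫ q := by
    simp only [a, b, Category.assoc, hφ, pullback.lift_snd_assoc]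
    rw [← h₁, h₂]
  let P := pullback.lift a b hab
  -- every geometric point is in the agreement locus
  suffices hpt : ∀ t : T, ∃ (K : Type u) (_ : Field K) (ξ : Spec (CommRingCat.of K) ⟶ T),
      ξ (IsLocalRing.closedPoint K) = t ∧ ξ ≫ a = ξ ≫ b by
    let c := IsOpenImmersion.lift (pullback.diagonal q) P (by
      rintro _ ⟨t, rfl⟩
      obtain ⟨K, hK, ξ, rfl, hξ⟩ := hpt t
      refine ⟨(ξ ≫ a) (IsLocalRing.closedPoint K), ?_⟩
      rw [← Scheme.Hom.comp_apply, ← Scheme.Hom.comp_apply]
      refine congrArg (fun m : Spec (CommRingCat.of K) ⟶ pullback q q => m (IsLocalRing.closedPoint K)) ?_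
      apply pullback.hom_ext
      · simp [P, pullback.lift_fst]
      · simp [P, pullback.lift_snd, hξ])
    have hc : c ≫ pullback.diagonal q = P := IsOpenImmersion.lift_fac _ _ _
    have e1 := congrArg (· ≫ pullback.fst q q) hc
    have e2 := congrArg (· ≫ pullback.snd q q) hc
    simp only [Category.assoc, pullback.diagonal_fst, pullback.diagonal_snd, Category.comp_id, P,
      pullback.lift_fst, pullback.lift_snd] at e1 e2
    exact e1.symm.trans e2
  intro t
  let K := AlgebraicClosure (T.residueField t)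
  let ζ : Spec (CommRingCat.of K) ⟶ T :=
    Spec.map (CommRingCat.ofHom (algebraMap (T.residueField t) K)) ≫ T.fromSpecResidueField t
  refine ⟨K, inferInstance, ζ, by rw [Scheme.Hom.comp_apply]; exact Scheme.fromSpecResidueField_apply t _, ?_⟩
  let ξ := ζ ≫ x ≫ p
  haveI := hconn K ξ
  let F := pullback g ξ
  let ψ : F ⟶ Y := pullback.lift (pullback.snd g ξ ≫ ζ ≫ x) (pullback.fst g ξ)
    (by rw [Category.assoc, Category.assoc, ← pullback.condition]) ≫ φ
  let c : F ⟶ pullback q ξ := pullback.lift ψ (pullback.snd g ξ) (by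
    simp only [ψ, Category.assoc, hφ, pullback.lift_snd_assoc, pullback.condition])
  haveI : Etale (pullback.snd q ξ) := MorphismProperty.pullback_snd _ _ ‹Etale q›
  haveI := discreteTopology_of_etale (pullback.snd q ξ)
  have hconst : ∀ u v : F, c u = c v := fun u v =>
    (isPreconnected_range c.continuous).subsingleton ⟨u, rfl⟩ ⟨v, rfl⟩
  have hsec : ∀ (s : T ⟶ S') (hs : x ≫ p = s ≫ g),
      ∃ σ : Spec (CommRingCat.of K) ⟶ F, σ ≫ c ≫ pullback.snd q ξ = 𝟙 _ ∧
        σ ≫ c ≫ pullback.fst q ξ = ζ ≫ pullback.lift x s hs ≫ φ := fun s hs => by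
    refine ⟨pullback.lift (ζ ≫ s) (𝟙 _) (by rw [Category.assoc, ← hs, Category.id_comp]), ?_, ?_⟩
    · simp [c, pullback.lift_snd]
    · simp only [c, pullback.lift_fst, ψ, ← Category.assoc]
      congr 1
      apply pullback.hom_ext
      · simp [pullback.lift_fst, pullback.lift_snd_assoc]
      · simp [pullback.lift_snd, pullback.lift_fst]
  obtain ⟨σ₁, hσ₁, hσ₁'⟩ := hsec s₁ h₁
  obtain ⟨σ₂, hσ₂, hσ₂'⟩ := hsec s₂ h₂
  have e : σ₁ ≫ c = σ₂ ≫ c :=
    ext_of_apply_closedPoint_eq (pullback.snd q ξ) (by rw [Category.assoc, hσ₁])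
      (by rw [Category.assoc, hσ₂]) (by rw [Scheme.Hom.comp_apply, Scheme.Hom.comp_apply]; exact hconst _ _)
  show ζ ≫ a = ζ ≫ b
  simp only [a, b]
  rw [← hσ₁', ← hσ₂', reassoc_of% e]

theorem bijective_pullback_map (hg : SGA1.UnivSubmersive g)
    (hconn : ∀ (K : Type u) [Field K] [IsAlgClosed K] (ξ : Spec (CommRingCat.of K) ⟶ S),
      ConnectedSpace ↑(pullback g ξ))
    (X Y : Over S) [Etale X.hom] [Etale Y.hom] :
    Function.Bijective ((Over.pullback g).map : (X ⟶ Y) → _) := by
  refine ⟨fun a b h => ?_, fun f' => ?_⟩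
  · haveI : Surjective (pullback.fst X.hom g) :=
      MorphismProperty.pullback_fst _ _ ⟨(isQuotientMap_of_univSubmersive hg).surjective⟩
    refine Over.OverMorphism.ext (hom_ext_of_surjective Y.hom a.left b.left
      (by rw [Over.w a, Over.w b]) (pullback.fst X.hom g) ?_)
    have := congrArg (fun m => CommaMorphism.left m ≫ pullback.fst Y.hom g) h
    simpa [Over.pullback, pullback.lift_fst] using this
  · obtain ⟨u, ⟨hu, hu'⟩, -⟩ := existsUnique_desc g hg hconn X.hom Y.hom
      (f'.left ≫ pullback.fst Y.hom g) (by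
        have := Over.w f'
        dsimp [Over.pullback] at this
        rw [Category.assoc, pullback.condition, reassoc_of% this])
    refine ⟨Over.homMk u hu, Over.OverMorphism.ext ?_⟩
    have := Over.w f'
    dsimp [Over.pullback] at this ⊢
    apply pullback.hom_ext
    · simp only [Over.homMk_left, pullback.lift_fst]; exact hu'.symm
    · simp only [Over.homMk_left, pullback.lift_snd]; exact this.symm

end Groth.Agent.UnivSubm25
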